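import Mathlib

/-!
# Orders of `3 × 3` matrices whose characteristic polynomial has coefficients in the prime field (helper293, for S3507)

* `pow_of_dvd` : `charpoly M ∣ X ^ m - 1` gives `M ^ m = 1`;
* `exp_two` : characteristic two, coefficients `0, 1`: `M ^ 3 = 1`, `M ^ 4 = 1` or `M ^ 7 = 1`;
* `factor_unit` : `M` unitary, the coefficients fixed by the field automorphism: `M ^ 2 = 1` or
  `charpoly M = (X + c) (X ^ 2 + (a - c) X + 1)`, `c ^ 2 = 1`;
* `exp_three`, `exp_five` : `M` unitary, characteristic three or five.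
-/

set_option autoImplicit false

namespace Cfsg.Agent.H293.Cyc

open Polynomial Matrix

universe u

variable {F : Type u} [Field F]

theorem charpoly3 (M : Matrix (Fin 3) (Fin 3) F) :
    M.charpoly = X ^ 3 + C (M.charpoly.coeff 2) * X ^ 2 + C (M.charpoly.coeff 1) * X + C (M.charpoly.coeff 0) := by
  have hd : M.charpoly.natDegree = 3 := by rw [Matrix.charpoly_natDegree_eq_dim, Fintype.card_fin]
  have h1 : M.charpoly.coeff 3 = 1 := by
    have h := (Matrix.charpoly_monic M).coeff_natDegree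
    rwa [hd] at h
  conv_lhs => rw [M.charpoly.as_sum_range_C_mul_X_pow, hd]
  simp only [Finset.sum_range_succ, Finset.sum_range_zero, h1]
  simp only [pow_zero, pow_one, mul_one, map_one, one_mul, zero_add]
  ring

theorem pow_of_dvd {n : ℕ} {M : Matrix (Fin n) (Fin n) F} {m : ℕ} (h : M.charpoly ∣ X ^ m - 1) : M ^ m = 1 := by
  obtain ⟨Q, hQ⟩ := h
  have h1 := congrArg (aeval M) hQ
  rw [map_mul, Matrix.aeval_self_charpoly, zero_mul, map_sub, map_pow, aeval_X, map_one, sub_eq_zero] at h1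
  exact h1

theorem coeff_zero_ne {M : Matrix (Fin 3) (Fin 3) F} (h : M.det ≠ 0) : M.charpoly.coeff 0 ≠ 0 := by
  rw [Matrix.det_eq_sign_charpoly_coeff] at h
  exact fun h0 => h (by rw [h0, mul_zero])

/-- Characteristic two. -/
theorem exp_two {M : Matrix (Fin 3) (Fin 3) F} (h2 : (2 : F) = 0) (hdet : M.det ≠ 0)
    (hc : ∀ i, M.charpoly.coeff i ^ 2 = M.charpoly.coeff i) : ∃ m, 0 < m ∧ m ≤ 7 ∧ M ^ m = 1 := by
  have h01 : ∀ i, M.charpoly.coeff i = 0 ∨ M.charpoly.coeff i = 1 := by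
    intro i
    have h := hc i
    have h3 : M.charpoly.coeff i * (M.charpoly.coeff i - 1) = 0 := by linear_combination h
    rcases mul_eq_zero.1 h3 with h4 | h4
    · exact Or.inl h4
    · exact Or.inr (sub_eq_zero.1 h4)
  have hc0 : M.charpoly.coeff 0 = 1 := (h01 0).resolve_left (coeff_zero_ne hdet)
  have hP := charpoly3 M
  rw [hc0] at hP
  have e2 : (2 : F[X]) = 0 := by
    have : (2 : F[X]) = C 2 := (C_ofNat 2).symm
    rw [this, h2, C_0]
  rcases h01 1 with h1 | h1 <;> rcases h01 2 with h3 | h3 <;> rw [h1, h3] at hP <;>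
    simp only [C_0, C_1, zero_mul, add_zero, one_mul] at hP
  · refine ⟨3, by norm_num, by norm_num, pow_of_dvd ⟨1, ?_⟩⟩
    rw [hP]
    linear_combination -(e2)
  · refine ⟨7, by norm_num, by norm_num, pow_of_dvd ⟨(X + 1) * (X ^ 3 + X + 1), ?_⟩⟩
    rw [hP]
    linear_combination -(X ^ 6 + X ^ 5 + 2 * X ^ 4 + 2 * X ^ 3 + X ^ 2 + X + 1) * e2
  · refine ⟨7, by norm_num, by norm_num, pow_of_dvd ⟨(X + 1) * (X ^ 3 + X ^ 2 + 1), ?_⟩⟩
    rw [hP]
    linear_combination -(X ^ 6 + X ^ 5 + 2 * X ^ 4 + 2 * X ^ 3 + X ^ 2 + X + 1) * e2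
  · refine ⟨4, by norm_num, by norm_num, pow_of_dvd ⟨X + 1, ?_⟩⟩
    rw [hP]
    linear_combination -(X ^ 3 + X ^ 2 + X + 1) * e2

/-- A unitary matrix whose characteristic polynomial has coefficients fixed by the field automorphism. -/
theorem factor_unit {M N : Matrix (Fin 3) (Fin 3) F} (hN : N * M = 1) (hcN : N.charpoly = M.charpoly)
    (hc2 : M.charpoly.coeff 0 ^ 2 = 1) :
    M ^ 2 = 1 ∨ M.charpoly = (X + C (M.charpoly.coeff 0)) *
      (X ^ 2 + C (M.charpoly.coeff 2 - M.charpoly.coeff 0) * X + 1) := by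
  set a := M.charpoly.coeff 2 with ha
  set b := M.charpoly.coeff 1 with hb
  set c := M.charpoly.coeff 0 with hc
  have hMN : M * N = 1 := mul_eq_one_comm.1 hN
  have hP : M.charpoly = X ^ 3 + C a * X ^ 2 + C b * X + C c := charpoly3 M
  have h1 : M ^ 3 + a • M ^ 2 + b • M + c • (1 : Matrix (Fin 3) (Fin 3) F) = 0 := by
    have h := Matrix.aeval_self_charpoly M
    rw [hP] at h
    simpa [Algebra.smul_def] using h
  have h2 : N ^ 3 + a • N ^ 2 + b • N + c • (1 : Matrix (Fin 3) (Fin 3) F) = 0 := by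
    have h := Matrix.aeval_self_charpoly N
    rw [hcN, hP] at h
    simpa [Algebra.smul_def] using h
  have k1 : N ^ 3 * M ^ 3 = 1 := by
    rw [pow_succ N, pow_succ' M, mul_assoc, ← mul_assoc N, hN, one_mul, pow_succ N, pow_succ' M, mul_assoc,
      ← mul_assoc N, hN, one_mul, pow_one, pow_one, hN]
  have k2 : N ^ 2 * M ^ 3 = M := by
    rw [pow_succ N, pow_succ' M, mul_assoc, ← mul_assoc N, hN, one_mul, pow_one, pow_succ' M, ← mul_assoc, hN,
      one_mul, pow_one]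
  have k3 : N * M ^ 3 = M ^ 2 := by
    rw [pow_succ' M, ← mul_assoc, hN, one_mul]
  have h3 : (1 : Matrix (Fin 3) (Fin 3) F) + a • M + b • M ^ 2 + c • M ^ 3 = 0 := by
    have h := congrArg (· * M ^ 3) h2
    simp only [add_mul, smul_mul_assoc, one_mul, zero_mul, k1, k2, k3] at h
    exact h
  have h4 : (b - c * a) • (M ^ 2 - c • M) = 0 := by
    have e1 : c • (c • (1 : Matrix (Fin 3) (Fin 3) F)) = 1 := by rw [smul_smul, ← pow_two, hc2, one_smul]
    have e2 : c • (c • M) = M := by rw [smul_smul, ← pow_two, hc2, one_smul]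
    have e3 : (b - c * a) • (M ^ 2 - c • M) = (1 + a • M + b • M ^ 2 + c • M ^ 3) -
        c • (M ^ 3 + a • M ^ 2 + b • M + c • (1 : Matrix (Fin 3) (Fin 3) F)) := by
      simp only [smul_sub, smul_add, sub_smul, mul_smul, e1, smul_comm c a (c • M), e2, smul_comm b c M]
      abel
    rw [e3, h1, h3, smul_zero, sub_zero]
  by_cases hb0 : b - c * a = 0
  · right
    rw [hP]
    have hbC : C b = C c * C a := by rw [← C_mul, sub_eq_zero.1 hb0]
    have hcC : C c * C c = 1 := by rw [← C_mul, ← pow_two, hc2, C_1]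
    rw [hbC, C_sub]
    linear_combination (X : F[X]) * hcC
  · left
    have h5 : M ^ 2 - c • M = 0 := by
      have h := congrArg ((b - c * a)⁻¹ • ·) h4
      simpa only [smul_smul, inv_mul_cancel₀ hb0, one_smul, smul_zero] using h
    have h6 : M = c • (1 : Matrix (Fin 3) (Fin 3) F) := by
      have h := congrArg (N * ·) h5
      simp only [mul_sub, mul_zero, mul_smul_comm, hN, sub_eq_zero] at h
      rw [← h, pow_two, ← mul_assoc, hN, one_mul]
    rw [h6, _root_.smul_pow, one_pow, hc2, one_smul]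

theorem pm_one {c : F} (h : c ^ 2 = 1) : c = 1 ∨ c = -1 := by
  have h1 : (c - 1) * (c + 1) = 0 := by linear_combination h
  rcases mul_eq_zero.1 h1 with h2 | h2
  · exact Or.inl (sub_eq_zero.1 h2)
  · exact Or.inr (eq_neg_of_add_eq_zero_left h2)

/-- Characteristic three. -/
theorem exp_three {M N : Matrix (Fin 3) (Fin 3) F} (h3 : (3 : F) = 0) (hN : N * M = 1)
    (hcN : N.charpoly = M.charpoly) (hc2 : M.charpoly.coeff 0 ^ 2 = 1)
    (hc : ∀ i, M.charpoly.coeff i ^ 3 = M.charpoly.coeff i) : ∃ m, 0 < m ∧ m ≤ 6 ∧ M ^ m = 1 := by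
  rcases factor_unit hN hcN hc2 with h | hP
  · exact ⟨2, by norm_num, by norm_num, h⟩
  have e3 : (3 : F[X]) = 0 := by
    have : (3 : F[X]) = C 3 := (C_ofNat 3).symm
    rw [this, h3, C_0]
  have ha := hc 2
  have hc0 := hc 0
  set a := M.charpoly.coeff 2
  set c := M.charpoly.coeff 0
  have hu : (a - c) * ((a - c) - 1) * ((a - c) + 1) = 0 := by
    linear_combination ha - hc0 + (a * c ^ 2 - a ^ 2 * c) * h3
  rcases mul_eq_zero.1 hu with hu | hu
  · rcases mul_eq_zero.1 hu with hu | hu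
    · rw [hu, C_0, zero_mul, add_zero] at hP
      rcases pm_one hc2 with h1 | h1 <;> rw [h1] at hP <;> simp only [C_1, C_neg] at hP
      · refine ⟨4, by norm_num, by norm_num, pow_of_dvd ⟨X - 1, ?_⟩⟩
        rw [hP]; ring
      · refine ⟨4, by norm_num, by norm_num, pow_of_dvd ⟨X + 1, ?_⟩⟩
        rw [hP]; ring
    · rw [sub_eq_zero.1 hu, C_1, one_mul] at hP
      rcases pm_one hc2 with h1 | h1 <;> rw [h1] at hP <;> simp only [C_1, C_neg] at hP
      · refine ⟨6, by norm_num, by norm_num, pow_of_dvd ⟨(X - 1) * (X + 1) ^ 2, ?_⟩⟩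
        rw [hP]
        linear_combination (X ^ 4 - X ^ 2) * e3 - (X + 1) * (X - 1) * (X + 1) ^ 2 * X * e3
      · refine ⟨6, by norm_num, by norm_num, pow_of_dvd ⟨(X + 1) ^ 3, ?_⟩⟩
        rw [hP]
        linear_combination (X ^ 4 - X ^ 2) * e3 - (X - 1) * (X + 1) ^ 3 * X * e3
  · rw [eq_neg_of_add_eq_zero_left hu, C_neg, C_1] at hP
    rcases pm_one hc2 with h1 | h1 <;> rw [h1] at hP <;> simp only [C_1, C_neg] at hP
    · refine ⟨6, by norm_num, by norm_num, pow_of_dvd ⟨(X - 1) ^ 3, ?_⟩⟩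
      rw [hP]
      linear_combination (X ^ 4 - X ^ 2) * e3 + (X + 1) * (X - 1) ^ 3 * X * e3
    · refine ⟨6, by norm_num, by norm_num, pow_of_dvd ⟨(X + 1) * (X - 1) ^ 2, ?_⟩⟩
      rw [hP]
      linear_combination (X ^ 4 - X ^ 2) * e3 + (X - 1) * (X + 1) * (X - 1) ^ 2 * X * e3

/-- Characteristic five. -/
theorem exp_five {M N : Matrix (Fin 3) (Fin 3) F} (h5 : (5 : F) = 0) (hN : N * M = 1)
    (hcN : N.charpoly = M.charpoly) (hc2 : M.charpoly.coeff 0 ^ 2 = 1)
    (hc : ∀ i, M.charpoly.coeff i ^ 5 = M.charpoly.coeff i) : ∃ m, 0 < m ∧ m ≤ 10 ∧ M ^ m = 1 := by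
  rcases factor_unit hN hcN hc2 with h | hP
  · exact ⟨2, by norm_num, by norm_num, h⟩
  have e5 : (5 : F[X]) = 0 := by
    have : (5 : F[X]) = C 5 := (C_ofNat 5).symm
    rw [this, h5, C_0]
  have ha := hc 2
  have hc0 := hc 0
  set a := M.charpoly.coeff 2
  set c := M.charpoly.coeff 0
  obtain ⟨u, hu'⟩ : ∃ u, u = a - c := ⟨_, rfl⟩
  have hu : u * (u - 1) * (u + 1) * (u - 2) * (u + 2) = 0 := by
    rw [hu']
    linear_combination ha - hc0 + (-(a ^ 4 * c) + 2 * a ^ 3 * c ^ 2 - 2 * a ^ 2 * c ^ 3 + a * c ^ 4 - (a - c) ^ 3 + (a - c)) * h5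
  rw [← hu'] at hP
  rcases mul_eq_zero.1 hu with hu | hu
  · rcases mul_eq_zero.1 hu with hu | hu
    · rcases mul_eq_zero.1 hu with hu | hu
      · rcases mul_eq_zero.1 hu with hu | hu
        · rw [hu, C_0, zero_mul, add_zero] at hP
          rcases pm_one hc2 with h1 | h1 <;> rw [h1] at hP <;> simp only [C_1, C_neg] at hP
          · refine ⟨4, by norm_num, by norm_num, pow_of_dvd ⟨X - 1, ?_⟩⟩
            rw [hP]; ring
          · refine ⟨4, by norm_num, by norm_num, pow_of_dvd ⟨X + 1, ?_⟩⟩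
            rw [hP]; ring
        · rw [sub_eq_zero.1 hu, C_1, one_mul] at hP
          rcases pm_one hc2 with h1 | h1 <;> rw [h1] at hP <;> simp only [C_1, C_neg] at hP
          · refine ⟨6, by norm_num, by norm_num, pow_of_dvd ⟨(X - 1) * (X ^ 2 - X + 1), ?_⟩⟩
            rw [hP]; ring
          · refine ⟨6, by norm_num, by norm_num, pow_of_dvd ⟨(X + 1) * (X ^ 2 - X + 1), ?_⟩⟩
            rw [hP]; ring
      · rw [eq_neg_of_add_eq_zero_left hu, C_neg, C_1] at hP
        rcases pm_one hc2 with h1 | h1 <;> rw [h1] at hP <;> simp only [C_1, C_neg] at hP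
        · refine ⟨6, by norm_num, by norm_num, pow_of_dvd ⟨(X - 1) * (X ^ 2 + X + 1), ?_⟩⟩
          rw [hP]; ring
        · refine ⟨6, by norm_num, by norm_num, pow_of_dvd ⟨(X + 1) * (X ^ 2 + X + 1), ?_⟩⟩
          rw [hP]; ring
    · have h2 : C u = (2 : F[X]) := by rw [sub_eq_zero.1 hu]; exact C_ofNat 2
      rw [h2] at hP
      rcases pm_one hc2 with h1 | h1 <;> rw [h1] at hP <;> simp only [C_1, C_neg] at hP
      · refine ⟨10, by norm_num, by norm_num, pow_of_dvd ⟨(X - 1) ^ 5 * (X + 1) ^ 2, ?_⟩⟩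
        rw [hP]
        linear_combination (X ^ 8 - 2 * X ^ 6 + 2 * X ^ 4 - X ^ 2) * e5
      · refine ⟨10, by norm_num, by norm_num, pow_of_dvd ⟨(X - 1) ^ 4 * (X + 1) ^ 3, ?_⟩⟩
        rw [hP]
        linear_combination (X ^ 8 - 2 * X ^ 6 + 2 * X ^ 4 - X ^ 2) * e5
  · have h2 : C u = (-2 : F[X]) := by rw [eq_neg_of_add_eq_zero_left hu, C_neg]; exact congrArg _ (C_ofNat 2)
    rw [h2] at hP
    rcases pm_one hc2 with h1 | h1 <;> rw [h1] at hP <;> simp only [C_1, C_neg] at hP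
    · refine ⟨10, by norm_num, by norm_num, pow_of_dvd ⟨(X + 1) ^ 4 * (X - 1) ^ 3, ?_⟩⟩
      rw [hP]
      linear_combination (X ^ 8 - 2 * X ^ 6 + 2 * X ^ 4 - X ^ 2) * e5
    · refine ⟨10, by norm_num, by norm_num, pow_of_dvd ⟨(X + 1) ^ 5 * (X - 1) ^ 2, ?_⟩⟩
      rw [hP]
      linear_combination (X ^ 8 - 2 * X ^ 6 + 2 * X ^ 4 - X ^ 2) * e5

end Cfsg.Agent.H293.Cyc
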