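import Cfsg.Agent.CpAutU.Fixed

/-!
# Automorphisms of `PSU_n(q)` as semilinear maps (helper293, for S3507)

* `tw A ρ k` : `A ρ(A) … ρ^(k-1)(A)`; `pow_toAut` : `toAut A ρ ^ k = toAut (tw A ρ k) (ρ ^ k)`;
* `charpoly_map` : if `ρ ^ k = 1` then the characteristic polynomial of `tw A ρ k` is fixed by `ρ`;
* `exists_lin` : every automorphism is `toAut A ρ`; with `ρ ^ k = 1` its `k`-th power is `f₁ X`, `charpoly X` fixed by `ρ`;
* `orderOf_f₁_dvd` : the order of `f₁ X` divides the order of `X` modulo the centre;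
* `card_fix` : `|F| = r ^ (orderOf ρ)`, `r` the number of fixed elements of `ρ`.
-/

set_option autoImplicit false

namespace Cfsg.Agent.H293.Cyc

open Matrix Cfsg
open Cfsg.Agent.ClassicalGeometry.PSUAutCount (gm toAut gm_mul gm_one gm_mul_inv gm_inv_mul gm_inj gm_def herm_gm semiConj
  guConj)
open Cfsg.Agent.ClassicalGeometry.UnitAutBasic (pr pr_surjective)
open Cfsg.Agent.Schreier.PSU (f₁ f₂ toAut_eq mapGU toAut_pr')
open Cfsg.Agent.CpAutU.Desc (toAut_mul toAut_one gm_mapGU')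

universe u

variable {F : Type u} [Field F] {q n : ℕ}

/-- `A ρ(A) … ρ^(k-1)(A)` -/
def tw (A : GU n F q) (ρ : F ≃+* F) : ℕ → GU n F q
  | 0 => 1
  | k + 1 => A * mapGU ρ (tw A ρ k)

theorem mapGU_mul (ρ : F ≃+* F) (A B : GU n F q) : mapGU ρ (A * B) = mapGU ρ A * mapGU ρ B := by
  apply gm_inj
  rw [gm_mapGU', gm_mul, gm_mul, gm_mapGU', gm_mapGU']
  exact Matrix.map_mul (f := (ρ : F →+* F))

theorem mapGU_mapGU (ρ σ : F ≃+* F) (A : GU n F q) : mapGU ρ (mapGU σ A) = mapGU (ρ * σ) A := by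
  apply gm_inj
  rw [gm_mapGU', gm_mapGU', gm_mapGU']
  ext i j
  rfl

theorem mapGU_one' (ρ : F ≃+* F) : mapGU ρ (1 : GU n F q) = 1 := by
  apply gm_inj
  rw [gm_mapGU', gm_one]
  exact Matrix.map_one _ (map_zero ρ) (map_one ρ)

theorem tw_succ' (A : GU n F q) (ρ : F ≃+* F) (k : ℕ) : tw A ρ (k + 1) = tw A ρ k * mapGU (ρ ^ k) A := by
  induction k with
  | zero =>
    show A * mapGU ρ 1 = 1 * mapGU (ρ ^ 0) A
    rw [mapGU_one', mul_one, one_mul, pow_zero, Cfsg.Agent.CpAutU.Desc.mapGU_one]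
  | succ k ih =>
    show A * mapGU ρ (tw A ρ (k + 1)) = (A * mapGU ρ (tw A ρ k)) * mapGU (ρ ^ (k + 1)) A
    rw [ih, mapGU_mul, mapGU_mapGU, ← pow_succ', mul_assoc]

theorem pow_toAut (A : GU n F q) (ρ : F ≃+* F) (k : ℕ) : toAut A ρ ^ k = toAut (tw A ρ k) (ρ ^ k) := by
  induction k with
  | zero => rw [pow_zero, pow_zero]; exact toAut_one.symm
  | succ k ih => rw [pow_succ', ih, toAut_mul, ← pow_succ']; rfl

/-- `A ρ(X) = X A` -/
theorem tw_comm (A : GU n F q) {ρ : F ≃+* F} {k : ℕ} (hk : ρ ^ k = 1) :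
    A * mapGU ρ (tw A ρ k) = tw A ρ k * A := by
  have h := tw_succ' A ρ k
  rw [hk, Cfsg.Agent.CpAutU.Desc.mapGU_one] at h
  exact h

/-- The characteristic polynomial is fixed. -/
theorem charpoly_map (A : GU n F q) {ρ : F ≃+* F} {k : ℕ} (hk : ρ ^ k = 1) :
    (gm (tw A ρ k)).charpoly.map (ρ : F →+* F) = (gm (tw A ρ k)).charpoly := by
  rw [← Matrix.charpoly_map]
  have h : gm (mapGU ρ (tw A ρ k)) = gm (A⁻¹ * (tw A ρ k * A)) := by
    rw [← tw_comm A hk, inv_mul_cancel_left]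
  have h1 : (gm (tw A ρ k)).map (ρ : F →+* F) = gm (mapGU ρ (tw A ρ k)) := rfl
  rw [h1, h]
  rw [gm_mul, gm_mul, ← mul_assoc, Matrix.charpoly_mul_comm, ← mul_assoc, gm_mul_inv, one_mul]

theorem coeff_fixed (A : GU n F q) {ρ : F ≃+* F} {k : ℕ} (hk : ρ ^ k = 1) (i : ℕ) :
    ρ ((gm (tw A ρ k)).charpoly.coeff i) = (gm (tw A ρ k)).charpoly.coeff i := by
  have h := congrArg (fun P => Polynomial.coeff P i) (charpoly_map A hk)
  rw [Polynomial.coeff_map] at h
  exact h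

/-- `k`-th power of an automorphism -/
theorem exists_lin [Fintype F] (hF : Fintype.card F = q ^ 2) (hn : 3 ≤ n) (h32 : ¬ (n = 3 ∧ q = 2)) (α : MulAut (PSU n F q)) :
    ∃ (X : GU n F q) (ρ : F ≃+* F), α ^ orderOf ρ = f₁ X ∧ (∀ i, ρ ((gm X).charpoly.coeff i) = (gm X).charpoly.coeff i) := by
  obtain ⟨A, ρ, rfl⟩ := Cfsg.Agent.ClassicalGeometry.PSUAutMain.exists_toAut hF hn h32 α
  refine ⟨tw A ρ (orderOf ρ), ρ, ?_, coeff_fixed A (pow_orderOf_eq_one ρ)⟩
  rw [pow_toAut, pow_orderOf_eq_one]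
  rfl

theorem f₁_center {X : GU n F q} (h : X ∈ Subgroup.center (GU n F q)) : f₁ X = (1 : MulAut (PSU n F q)) := by
  ext x
  obtain ⟨g, rfl⟩ := pr_surjective x
  show toAut X 1 (pr n F q g) = pr n F q g
  rw [toAut_pr']
  congr 1
  apply Cfsg.Agent.LieClassical.HermSiegel.ext_act
  intro v
  rw [Cfsg.Agent.Schreier.PSU.act_semiConj_one']
  let B : GU n F q := ⟨Matrix.SpecialLinearGroup.toGL g.1, g.2⟩
  have hB : gm B = Cfsg.Agent.LieClassical.HermSiegel.mat g := rfl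
  have h1 : gm B * gm X⁻¹ = gm X⁻¹ * gm B := by
    rw [← gm_mul, ← gm_mul, (Subgroup.mem_center_iff.1 (inv_mem h) B)]
  rw [Cfsg.Agent.LieClassical.HermSiegel.act_def, Cfsg.Agent.LieClassical.HermSiegel.act_def, ← hB, mulVec_mulVec,
    mulVec_mulVec, mul_assoc, h1, ← mul_assoc, gm_mul_inv, one_mul]

theorem orderOf_f₁_dvd (X : GU n F q) :
    orderOf (f₁ X : MulAut (PSU n F q)) ∣ orderOf (QuotientGroup.mk X : GU n F q ⧸ Subgroup.center (GU n F q)) := by
  let φ : (GU n F q ⧸ Subgroup.center (GU n F q)) →* MulAut (PSU n F q) :=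
    QuotientGroup.lift _ f₁ (fun X hX => f₁_center hX)
  exact orderOf_map_dvd φ (QuotientGroup.mk X)

theorem f₁_pow_eq_one {X : GU n F q} {m : ℕ} (h : gm X ^ m = 1) : (f₁ X : MulAut (PSU n F q)) ^ m = 1 := by
  have h1 : X ^ m = 1 := by
    apply gm_inj
    rw [gm_one, ← h]
    exact map_pow ((Units.coeHom _).comp (GU n F q).subtype) X m
  rw [← map_pow, h1, map_one]

/-- the unitary relation -/
theorem exists_inv [Fintype F] (hF : Fintype.card F = q ^ 2) (X : GU n F q)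
    (h : ∀ i, (gm X).charpoly.coeff i ^ q = (gm X).charpoly.coeff i) :
    ∃ N : Matrix (Fin n) (Fin n) F, N * gm X = 1 ∧ N.charpoly = (gm X).charpoly := by
  obtain ⟨σ, hσ⟩ := Cfsg.Agent.ClassicalGeometry.GUBasic.exists_powHom hF
  have hq := Cfsg.Agent.ClassicalGeometry.GUBasic.two_le hF
  have h1 := Cfsg.Agent.ClassicalGeometry.GUBasic.transpose_mul_map (q := q) (n := n) (by omega) (A := gm X) (herm_gm X)
  have h2 : (gm X).map (fun x => x ^ q) = (gm X).map σ := by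
    ext i j
    simp [hσ]
  rw [h2] at h1
  refine ⟨((gm X).map σ)ᵀ, ?_, ?_⟩
  · have h3 := congrArg Matrix.transpose h1
    rwa [Matrix.transpose_mul, Matrix.transpose_transpose, Matrix.transpose_one] at h3
  · rw [Matrix.charpoly_transpose, Matrix.charpoly_map]
    ext i
    rw [Polynomial.coeff_map, hσ, h i]

/-- the determinant: `c ^ 2 = 1` for the constant term `c` if it is fixed -/
theorem coeff_zero_sq [Fintype F] (hF : Fintype.card F = q ^ 2) (X : GU n F q)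
    (h : (gm X).charpoly.coeff 0 ^ q = (gm X).charpoly.coeff 0) : (gm X).charpoly.coeff 0 ^ 2 = 1 := by
  have h1 := Cfsg.Agent.ClassicalGeometry.GUBasic.det_pow (q := q) (n := n) hF (A := gm X) (herm_gm X)
  have hs : (gm X).charpoly.coeff 0 = (-1) ^ n * (gm X).det := by
    have h2 := Matrix.det_eq_sign_charpoly_coeff (gm X)
    rw [Fintype.card_fin] at h2
    rw [h2, ← mul_assoc, ← mul_pow, neg_one_mul, neg_neg, one_pow, one_mul]
  obtain ⟨σ, hσ⟩ := Cfsg.Agent.ClassicalGeometry.GUBasic.exists_powHom hF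
  have h3 : ((-1 : F) ^ n) ^ q = (-1) ^ n := by
    rw [← hσ, map_pow, map_neg, map_one]
  have h4 : ((-1 : F) ^ n) * (-1) ^ n = 1 := by rw [← mul_pow, neg_one_mul, neg_neg, one_pow]
  rw [hs, mul_pow, h3] at h
  have h5 : (gm X).det ^ q = (gm X).det := by
    have := congrArg (((-1 : F) ^ n) * ·) h
    simp only [← mul_assoc, h4, one_mul] at this
    exact this
  rw [pow_succ, h5, ← pow_two] at h1
  rw [hs, mul_pow, h1, mul_one, pow_two, h4]

end Cfsg.Agent.H293.Cyc
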